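import Groth.Agent.SmoothRank.Ring
import Groth.Agent.S5022
import Groth.Agent.FittX.Sheaf
import Groth.Agent.OmegaUniv.Unram
import Groth.Agent.FibDim.Comp
import Groth.Agent.FibDim.LocDim

/-!
# The Jacobian criterion in terms of Fitting ideals
-/

set_option autoImplicit false
set_option linter.style.haveILetI false
set_option backward.isDefEq.respectTransparency false
set_option backward.isDefEq.respectTransparency.types false
set_option maxHeartbeats 1000000

universe u

open CategoryTheory CategoryTheory.Limits AlgebraicGeometry TopologicalSpace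

namespace Groth.Agent.FittSmooth

/-- Differentials spanning up to a unit span the differentials of the local ring. -/
theorem exists_span_localization {A B : Type u} [CommRing A] [CommRing B] [Algebra A B] (q : Ideal B) [q.IsPrime]
    {n : ℕ} (g : Fin n → Ω[B⁄A]) (d : B) (hd : d ∉ q)
    (hg : ∀ y, d • y ∈ Submodule.span B (Set.range g)) :
    ∃ v : Fin n → Ω[Localization.AtPrime q⁄A], Submodule.span (Localization.AtPrime q) (Set.range v) = ⊤ := by
  let T := Localization.AtPrime q
  let v : Fin n → Ω[T⁄A] := fun i => KaehlerDifferential.map A A B T (g i)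
  refine ⟨v, top_le_iff.1 ((KaehlerDifferential.span_range_derivation A T).ge.trans (Submodule.span_le.2 ?_))⟩
  rintro _ ⟨z, rfl⟩
  let N := Submodule.span T (Set.range v)
  have hall : ∀ c, KaehlerDifferential.D A T (algebraMap B T c) ∈ N := fun c => by
    rw [← KaehlerDifferential.map_D A A B T]
    have h1 := Submodule.apply_mem_span_image_of_mem_span (KaehlerDifferential.map A A B T)
      (hg (KaehlerDifferential.D A B c))
    have h2 : algebraMap B T d • KaehlerDifferential.map A A B T (KaehlerDifferential.D A B c) ∈ N := by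
      rw [IsScalarTower.algebraMap_smul, ← map_smul]
      refine Submodule.span_mono ?_ (Submodule.span_le_restrictScalars B T _ h1)
      rintro _ ⟨_, ⟨i, rfl⟩, rfl⟩
      exact ⟨i, rfl⟩
    exact (Submodule.smul_mem_iff_of_isUnit N (IsLocalization.map_units T (⟨d, hd⟩ : q.primeCompl))).1 h2
  obtain ⟨⟨c, s⟩, hz⟩ := IsLocalization.surj q.primeCompl z
  have h1 : z • KaehlerDifferential.D A T (algebraMap B T s) +
      algebraMap B T s • KaehlerDifferential.D A T z ∈ N := by
    rw [← Derivation.leibniz, hz]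
    exact hall c
  exact (Submodule.smul_mem_iff_of_isUnit N (IsLocalization.map_units T s)).1
    ((N.add_mem_iff_right (N.smul_mem z (hall s))).1 h1)

variable {X Y : Scheme.{u}} (f : X ⟶ Y) [LocallyOfFinitePresentation f]

/-- A flat point where the differentials need at most as many generators as the fibre dimension is smooth. -/
theorem mem_smoothLocus_of_not_mem [QuasiSeparated f] (n : ℕ) (x : X)
    (hflat : (f.stalkMap x).hom.Flat) (hdim : FlatMor.fibreDimAt f x = (n : WithBot ℕ∞))
    (hx : x ∉ (Fitt.sheafIdeal (Omega.sheaf f) n).support) : x ∈ f.smoothLocus := by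
  have hd := OmegaUniv.isUniversal_dOmega f
  obtain ⟨W, hW, hxW, -⟩ := exists_isAffineOpen_mem_and_subset (x := f x) (U := (⊤ : Y.Opens)) trivial
  obtain ⟨V, hV, hxV, e⟩ := exists_isAffineOpen_mem_and_subset (x := x) (U := f ⁻¹ᵁ W) hxW
  haveI := QCoh.finite_of_isFT (OmegaUniv.isQCoh_omega f) (OmegaUniv.isFT_omega f) hV
  rw [FittX.mem_support_sheafIdeal (OmegaUniv.isQCoh_omega f) (OmegaUniv.isFT_omega f) n hV hxV] at hx
  obtain ⟨d, hdq, -, g, hg⟩ := FittX.exists_smul_mem_span hx
  letI := (f.appLE W V e).hom.toAlgebra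
  haveI : Algebra.FinitePresentation Γ(Y, W) Γ(X, V) := f.finitePresentation_appLE hW hV e
  obtain ⟨l⟩ := Synt29.OmegaStalk.exists_linearEquiv_sections hd hV hW e
  let q := hV.primeIdealOf ⟨x, hxV⟩
  have hq : hV.fromSpec q = x := hV.fromSpec_primeIdealOf ⟨x, hxV⟩
  obtain ⟨v, hv⟩ := exists_span_localization (A := Γ(Y, W)) q.asIdeal (l ∘ g) d hdq fun y => by
    obtain ⟨y, rfl⟩ := l.surjective y
    rw [← map_smul]
    have h1 := Submodule.apply_mem_span_image_of_mem_span l.toLinearMap (hg y)
    rwa [← Set.range_comp] at h1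
  let φ : Spec Γ(X, V) ⟶ Spec Γ(Y, W) := Spec.map (CommRingCat.ofHom (algebraMap Γ(Y, W) Γ(X, V)))
  have hcomm : φ ≫ hW.fromSpec = hV.fromSpec ≫ f := hW.SpecMap_appLE_fromSpec f hV e
  haveI : LocallyOfFinitePresentation φ :=
    HasRingHomProperty.Spec_iff.2 (RingHom.finitePresentation_algebraMap.2 inferInstance)
  haveI : LocallyOfFiniteType φ := inferInstance
  have hflat' : (φ.stalkMap q).hom.Flat := by
    have h0 : ((hV.fromSpec ≫ f).stalkMap q).hom.Flat := by
      rw [Scheme.Hom.stalkMap_comp]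
      refine (RingHom.Flat.respectsIso.cancel_right_isIso _ _).mpr ?_
      rw [hq]; exact hflat
    rw [← hcomm, Scheme.Hom.stalkMap_comp] at h0
    exact (RingHom.Flat.respectsIso.cancel_left_isIso _ _).mp h0
  have hdim' : FlatMor.fibreDimAt φ q = (n : WithBot ℕ∞) := by
    rw [← hdim, ← FibDim.fibreDimAt_comp_mono φ hW.fromSpec q, hcomm,
      FibDim.fibreDimAt_openImmersion_comp hV.fromSpec f q, hq]
  have hsm := SmoothRank.isSmoothAt_of_flat_of_rank Γ(Y, W) Γ(X, V) q n hflat' hdim' v hv
  show (f.stalkMap x).hom.FormallySmooth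
  exact (formallySmooth_stalkMap_iff W hW V hV e hxV).mpr hsm

/-- At a smooth point the differentials are generated by as many sections as the fibre dimension. -/
theorem not_mem_of_mem_smoothLocus [QuasiSeparated f] (n : ℕ) (x : X)
    (hdim : FlatMor.fibreDimAt f x = (n : WithBot ℕ∞)) (hx : x ∈ f.smoothLocus) :
    x ∉ (Fitt.sheafIdeal (Omega.sheaf f) n).support := by
  obtain ⟨-, U, m, hxU, ⟨e⟩, hm⟩ := (S5022.result f (Omega.sheaf f) (OmegaSh.dOmega f)
    (OmegaUniv.isUniversal_dOmega f) x).1 hx
  obtain rfl : m = n := by exact_mod_cast hm.symm.trans hdim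
  exact (FittX.generated_iff (OmegaUniv.isQCoh_omega f) (OmegaUniv.isFT_omega f) x m).1
    ⟨U, hxU, e.inv, inferInstance⟩

/-- Fibres with all components of dimension `d` have dimension `d` at every point. -/
theorem fibreDimAt_eq_of_components [LocallyOfFiniteType f] (d : ℕ)
    (hdim : ∀ s : ↥Y, ∀ T ∈ irreducibleComponents ↥(f.fiber s), topologicalKrullDim ↥T = d) (x : X) :
    FlatMor.fibreDimAt f x = (d : WithBot ℕ∞) := by
  obtain ⟨z, -, hfz, hmax, he⟩ := FibDim.exists_fibMax_generization f x
  obtain ⟨T, hT, hTe⟩ := (FibDim.fiber_component_dims f (f x)).ge ⟨z, ⟨hfz, hmax⟩, rfl⟩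
  rw [he]
  exact hTe.symm.trans (hdim _ T hT)

/-- The smooth locus through neighbourhoods. -/
theorem mem_smoothLocus_iff_exists (x : X) :
    x ∈ f.smoothLocus ↔ ∃ U : X.Opens, x ∈ U ∧ Smooth (U.ι ≫ f) := by
  constructor
  · intro hx
    refine ⟨f.smoothLocus, hx, Scheme.Hom.smoothLocus_eq_top_iff.1 ?_⟩
    rw [← Scheme.Hom.preimage_smoothLocus_eq]
    exact Scheme.Opens.ι_preimage_self _
  · rintro ⟨U, hxU, hU⟩
    have h := (U.ι ≫ f).smoothLocus_eq_top
    rw [← Scheme.Hom.preimage_smoothLocus_eq] at h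
    exact h.ge (Set.mem_univ (⟨x, hxU⟩ : (U : Scheme.{u})))

end Groth.Agent.FittSmooth
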