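import Groth.Agent.FittSmooth.Lci
import Mathlib.RingTheory.Smooth.StandardSmoothCotangent
import Mathlib.LinearAlgebra.Matrix.Rank

/-!
# Standard smooth charts from the Fitting ideals of the differentials
-/

set_option autoImplicit false
set_option linter.style.haveILetI false
set_option backward.isDefEq.respectTransparency false
set_option backward.isDefEq.respectTransparency.types false
set_option maxHeartbeats 1000000

universe u

open CategoryTheory AlgebraicGeometry TopologicalSpace MvPolynomial
open scoped TensorProduct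

namespace Groth.Agent.FittSmooth

/-- Independent rows have a non-vanishing maximal minor. -/
theorem exists_minor {k : Type u} [Field k] {r n : ℕ} (M : Fin r → Fin n → k) (hM : LinearIndependent k M) :
    ∃ e : Fin r → Fin n, Function.Injective e ∧ (Matrix.of fun m l => M m (e l)).det ≠ 0 := by
  classical
  let A : Matrix (Fin r) (Fin n) k := Matrix.of M
  have hspan : Submodule.span k (Set.range A.col) = ⊤ := by
    apply Submodule.eq_top_of_finrank_eq
    rw [← Matrix.rank_eq_finrank_span_cols, Module.finrank_fin_fun]
    exact (LinearIndependent.rank_matrix (M := A) hM).trans (Fintype.card_fin r)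
  obtain ⟨s, hs, hspan', hli⟩ := exists_linearIndependent k (Set.range A.col)
  have hsf : s.Finite := (Set.finite_range _).subset hs
  haveI := hsf.fintype
  let b : Module.Basis s k (Fin r → k) := Module.Basis.mk hli (by
    rw [Subtype.range_coe_subtype, Set.setOf_mem_eq, hspan', hspan])
  let ε : Fin r ≃ s := (Pi.basisFun k (Fin r)).indexEquiv b
  choose j hj using fun l : Fin r => hs (ε l).2
  refine ⟨j, fun l l' h => ε.injective (Subtype.ext (by rw [← hj l, ← hj l', h])), ?_⟩
  have hcols : LinearIndependent k (Matrix.of fun m l => M m (j l)).col := by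
    have : (Matrix.of fun m l => M m (j l)).col = ((↑) : s → Fin r → k) ∘ ε := by
      funext l m
      exact congrFun (hj l) m
    rw [this]
    exact hli.comp ε ε.injective
  exact ((Matrix.isUnit_iff_isUnit_det _).mp (Matrix.linearIndependent_cols_iff_isUnit.mp hcols)).ne_zero

/-- `r` equations in `n` variables define a standard smooth algebra where a maximal minor is invertible. -/
theorem isStandardSmooth_sys (R : Type u) [CommRing R] {n r : ℕ} (g : Fin r → MvPolynomial (Fin n) R)
    (a : Fin r → Fin n) (ha : Function.Injective a) :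
    Algebra.IsStandardSmoothOfRelativeDimension (n - r) R
      (Localization.Away (Ideal.Quotient.mk (Ideal.span (Set.range g))
        (Matrix.of fun i j => pderiv (a j) (g i)).det)) := by
  let T := MvPolynomial (Fin n) R ⧸ Ideal.span (Set.range g)
  let Δ : T := Ideal.Quotient.mk _ (Matrix.of fun i j => pderiv (a j) (g i)).det
  let P := Algebra.PreSubmersivePresentation.naive (R := R) (v := g) a ha
  have hj : P.jacobian = Δ := by
    rw [Algebra.PreSubmersivePresentation.jacobian_eq_jacobiMatrix_det]
    show (Ideal.Quotient.mk (Ideal.span (Set.range g))) _ = _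
    rw [← Matrix.det_transpose]
    congr 2
    ext i j
    simp [P]
  let Q := (Algebra.SubmersivePresentation.localizationAway (Localization.Away Δ) Δ).toPreSubmersivePresentation.comp P
  have hQ : IsUnit Q.jacobian := by
    rw [Algebra.PreSubmersivePresentation.comp_jacobian_eq_jacobian_smul_jacobian, Algebra.smul_def, hj]
    exact (IsLocalization.Away.algebraMap_isUnit Δ).mul
      (Algebra.SubmersivePresentation.localizationAway (Localization.Away Δ) Δ).jacobian_isUnit
  refine ⟨_, _, inferInstance, inferInstance, ⟨Q, hQ⟩, ?_⟩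
  simp only [Algebra.Presentation.dimension, Nat.card_sum, Nat.card_unique, Nat.card_fin]
  omega

/-- Where the differentials need at most `p` generators an algebra of finite presentation is, after one localization,
a quotient of a standard smooth algebra of relative dimension `p`. -/
theorem exists_smooth_chart (A B K : Type u) [CommRing A] [CommRing B] [Algebra A B] [Algebra.FinitePresentation A B]
    [Field K] [Algebra B K] (p : ℕ) (hp : Module.finrank K (K ⊗[B] Ω[B⁄A]) ≤ p) :
    ∃ b : B, algebraMap B K b ≠ 0 ∧ ∃ (C : Type u) (_ : CommRing C) (_ : Algebra A C),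
      Algebra.IsStandardSmoothOfRelativeDimension p A C ∧ ∃ ψ : C →ₐ[A] Localization.Away b, Function.Surjective ψ := by
  classical
  obtain ⟨N, φ₀, hφ₀, -⟩ := Algebra.FinitePresentation.out (R := A) (A := B)
  let S := MvPolynomial (Fin (N + p)) A
  let φ : S →ₐ[A] B := aeval (Fin.addCases (fun j => φ₀ (X j)) fun _ => 0)
  have hφ : Function.Surjective φ := fun y => by
    obtain ⟨q, rfl⟩ := hφ₀ y
    refine ⟨rename (Fin.castAdd p) q, ?_⟩
    have e : φ.comp (rename (Fin.castAdd p)) = φ₀ := MvPolynomial.algHom_ext fun j => by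
      simp only [φ, AlgHom.comp_apply]
      erw [rename_X, aeval_X]
      exact Fin.addCases_left _
    exact DFunLike.congr_fun e q
  let ev : S →+* K := (algebraMap B K).comp φ.toRingHom
  let grad : S → Fin (N + p) → K := fun q j => ev (pderiv j q)
  let W : Submodule K (Fin (N + p) → K) := Submodule.span K (grad '' {q | φ q = 0})
  letI : Algebra A K := ((algebraMap B K).comp (algebraMap A B)).toAlgebra
  haveI : IsScalarTower A B K := IsScalarTower.of_algebraMap_eq' rfl
  have hadd : ∀ q q', grad (q + q') = grad q + grad q' := fun q q' => funext fun j => by simp [grad]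
  have hmul : ∀ q q', grad (q * q') = ev q • grad q' + ev q' • grad q := fun q q' => funext fun j => by
    simp [grad]
  let d : B → (Fin (N + p) → K) ⧸ W := fun y => Submodule.Quotient.mk (grad (Function.surjInv hφ y))
  have hd : ∀ q, d (φ q) = Submodule.Quotient.mk (grad q) := fun q => by
    refine (Submodule.Quotient.eq W).2 (Submodule.subset_span ⟨Function.surjInv hφ (φ q) - q, ?_, ?_⟩)
    · simp [Function.surjInv_eq hφ]
    · funext j; simp [grad]
  let D : Derivation A B ((Fin (N + p) → K) ⧸ W) := Derivation.mk'
    { toFun := d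
      map_add' := fun y y' => by
        obtain ⟨q, rfl⟩ := hφ y; obtain ⟨q', rfl⟩ := hφ y'
        rw [← map_add, hd, hd, hd, hadd]; rfl
      map_smul' := fun s y => by
        obtain ⟨q, rfl⟩ := hφ y
        rw [← map_smul, hd, hd]
        show _ = s • Submodule.Quotient.mk (p := W) (grad q)
        rw [← Submodule.Quotient.mk_smul]
        congr 1
        funext j
        simp [grad, ev, Algebra.smul_def, IsScalarTower.algebraMap_apply A B K]
        right
        rw [show pderiv j (algebraMap A S s) = 0 from (pderiv j).map_algebraMap s, map_zero, map_zero] }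
    fun y y' => by
      obtain ⟨q, rfl⟩ := hφ y; obtain ⟨q', rfl⟩ := hφ y'
      show d _ = φ q • d _ + φ q' • d _
      rw [← map_mul, hd, hd, hd, hmul, ← Submodule.Quotient.mk_smul, ← Submodule.Quotient.mk_smul,
        ← Submodule.Quotient.mk_add]
      congr 1
      funext j
      simp [ev, Algebra.smul_def]
  let L : K ⊗[B] Ω[B⁄A] →ₗ[K] (Fin (N + p) → K) ⧸ W := D.liftKaehlerDifferential.liftBaseChange K
  have hL : Function.Surjective L := by
    intro z
    obtain ⟨v, rfl⟩ := Submodule.Quotient.mk_surjective W z
    refine LinearMap.mem_range.1 ?_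
    rw [pi_eq_sum_univ v, ← Submodule.mkQ_apply, map_sum]
    refine Submodule.sum_mem _ fun j _ => ?_
    rw [map_smul]
    refine Submodule.smul_mem _ _ ⟨(1 : K) ⊗ₜ KaehlerDifferential.D A B (φ (X j)), ?_⟩
    have e : grad (X j) = fun i => if j = i then (1 : K) else 0 := funext fun i => by
      by_cases h : j = i
      · subst h; simp [grad]
      · simp [grad, h, pderiv_X_of_ne (Ne.symm h)]
    show (1 : K) • D.liftKaehlerDifferential (KaehlerDifferential.D A B (φ (X j))) = _
    rw [one_smul, Derivation.liftKaehlerDifferential_comp_D]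
    exact (hd _).trans (congrArg _ e)
  haveI : Module.Finite B Ω[B⁄A] := inferInstance
  have hr : N ≤ Module.finrank K W := by
    have h1 := LinearMap.finrank_le_finrank_of_surjective hL
    have h2 := W.finrank_quotient_add_finrank
    rw [Module.finrank_fin_fun] at h2
    omega
  obtain ⟨v, hv, -, hli⟩ := Submodule.exists_fun_fin_finrank_span_eq K (grad '' {q | φ q = 0})
  choose g hg hg' using fun i => hv i
  let g' : Fin N → S := fun i => g (Fin.castLE hr i)
  have hli' : LinearIndependent K fun i => grad (g' i) := by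
    have e : (fun i => grad (g' i)) = v ∘ Fin.castLE hr := funext fun i => hg' _
    rw [e]
    exact hli.comp _ (Fin.castLE_injective hr)
  obtain ⟨a, ha, hdet⟩ := exists_minor _ hli'
  let Δ : S := (Matrix.of fun i j => pderiv (a j) (g' i)).det
  refine ⟨φ Δ, ?_, ?_⟩
  · show ev Δ ≠ 0
    rw [RingHom.map_det]
    exact hdet
  let φb : S ⧸ Ideal.span (Set.range g') →ₐ[A] B := Ideal.Quotient.liftₐ _ φ fun x hx =>
    (Ideal.span_le.2 (by rintro _ ⟨i, rfl⟩; exact hg _) : Ideal.span (Set.range g') ≤ RingHom.ker φ) hx
  haveI : IsLocalization.Away (φb (Ideal.Quotient.mk _ Δ)) (Localization.Away (φ Δ)) :=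
    inferInstanceAs (IsLocalization.Away (φ Δ) (Localization.Away (φ Δ)))
  refine ⟨Localization.Away (Ideal.Quotient.mk (Ideal.span (Set.range g')) Δ), inferInstance, inferInstance, ?_,
    IsLocalization.Away.mapₐ _ _ φb (Ideal.Quotient.mk _ Δ),
    IsLocalization.Away.mapₐ_surjective_of_surjective _ fun y => ?_⟩
  · simpa using isStandardSmooth_sys A g' a ha
  · obtain ⟨q, rfl⟩ := hφ y
    exact ⟨Ideal.Quotient.mk _ q, rfl⟩

/-- The Fitting support read on an affine chart, at the stalk. -/
theorem mem_support_iff_finrank {Y X : Scheme.{u}} (f : Y ⟶ X) [LocallyOfFinitePresentation f] [QuasiSeparated f]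
    (m : ℕ) (y : Y) {W : X.Opens} (hW : IsAffineOpen W) {V : Y.Opens} (hV : IsAffineOpen V) (e : V ≤ f ⁻¹ᵁ W)
    (hy : y ∈ V) :
    letI := (f.appLE W V e).hom.toAlgebra
    y ∉ (Fitt.sheafIdeal (Omega.sheaf f) m).support ↔
      ∃ a ∈ Fitt.ideal Γ(Y, V) Ω[Γ(Y, V)⁄Γ(X, W)] m, y ∈ Y.basicOpen a := by
  letI := (f.appLE W V e).hom.toAlgebra
  have hd := OmegaUniv.isUniversal_dOmega f
  haveI := QCoh.finite_of_isFT (OmegaUniv.isQCoh_omega f) (OmegaUniv.isFT_omega f) hV
  obtain ⟨l⟩ := Synt29.OmegaStalk.exists_linearEquiv_sections hd hV hW e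
  rw [Scheme.IdealSheafData.mem_support_iff_of_mem (U := ⟨V, hV⟩) hy,
    FittX.sheafIdeal_ideal (OmegaUniv.isQCoh_omega f) (OmegaUniv.isFT_omega f), Scheme.mem_zeroLocus_iff,
    FittX.ideal_congr l]
  simp only [SetLike.mem_coe]
  push Not
  rfl

/-- A closed subscheme of a smooth scheme of relative dimension `p` has differentials with at most `p`
generators. -/
theorem finrank_le_of_closedImmersion {U P X : Scheme.{u}} (i : U ⟶ P) [IsClosedImmersion i] (g : P ⟶ X) (p : ℕ)
    [SmoothOfRelativeDimension p g] (q : U ⟶ X) (hq : i ≫ g = q) (u : U) :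
    letI := (q.stalkMap u).hom.toAlgebra
    Module.finrank (IsLocalRing.ResidueField (U.presheaf.stalk u)) (IsLocalRing.ResidueField (U.presheaf.stalk u)
      ⊗[U.presheaf.stalk u] Ω[U.presheaf.stalk u⁄X.presheaf.stalk (q u)]) ≤ p := by
  subst hq
  letI := ((i ≫ g).stalkMap u).hom.toAlgebra
  letI := (g.stalkMap (i u)).hom.toAlgebra
  letI := (i.stalkMap u).hom.toAlgebra
  letI : Algebra (X.presheaf.stalk (g (i u))) (U.presheaf.stalk u) := ((i ≫ g).stalkMap u).hom.toAlgebra
  haveI : IsScalarTower (X.presheaf.stalk (g (i u))) (P.presheaf.stalk (i u)) (U.presheaf.stalk u) :=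
    IsScalarTower.of_algebraMap_eq' (by
      show ((i ≫ g).stalkMap u).hom = (g.stalkMap (i u) ≫ i.stalkMap u).hom
      rw [Scheme.Hom.stalkMap_comp])
  obtain ⟨hfree, hfin, hrk⟩ := SmoothCrit.free_stalk_of_smooth g p (i u)
  let T := P.presheaf.stalk (i u)
  let Tb := U.presheaf.stalk u
  let κ := IsLocalRing.ResidueField Tb
  have hs := KaehlerDifferential.mapBaseChange_surjective (X.presheaf.stalk (g (i u))) T Tb (i.stalkMap_surjective u)
  have h := LinearMap.finrank_le_finrank_of_surjective
    (f := (KaehlerDifferential.mapBaseChange (X.presheaf.stalk (g (i u))) T Tb).baseChange κ)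
    (LinearMap.lTensor_surjective κ hs)
  refine h.trans_eq ?_
  haveI : Nontrivial T := RingHom.domain_nontrivial (algebraMap T Tb)
  rw [Module.finrank_baseChange, Module.finrank_baseChange]
  exact hrk

end Groth.Agent.FittSmooth
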