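import Mathlib.RingTheory.Smooth.Local
import Mathlib.RingTheory.LocalRing.Module
import Mathlib.LinearAlgebra.Dimension.RankNullity
import Mathlib.LinearAlgebra.Dimension.Constructions
import Mathlib.LinearAlgebra.FiniteDimensional.Lemmas

/-!
# Smoothness of a quotient cut out by few elements, by the rank of the differentials
-/

set_option autoImplicit false
set_option linter.style.haveILetI false
set_option backward.isDefEq.respectTransparency false
set_option backward.isDefEq.respectTransparency.types false
set_option maxHeartbeats 1000000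

universe u

open IsLocalRing
open scoped TensorProduct

namespace Groth.Agent.FittSmooth

variable {A T Tb : Type u} [CommRing A] [CommRing T] [CommRing Tb] [Algebra A T] [Algebra T Tb] [Algebra A Tb]
  [IsScalarTower A T Tb] [IsLocalRing Tb] [Algebra.FormallySmooth A T]
  [Module.Free T Ω[T⁄A]] [Module.Finite T Ω[T⁄A]]

/-- A quotient of a formally smooth ring with differentials of rank `m + c` by `c` elements without relations
is formally smooth iff its differentials need at most `m` generators. -/
theorem formallySmooth_iff_finrank_le (hsurj : Function.Surjective (algebraMap T Tb)) {c m : ℕ}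
    (hr : Module.finrank T Ω[T⁄A] = m + c) (g : Fin c → T)
    (hg : RingHom.ker (algebraMap T Tb) = Ideal.span (Set.range g))
    (hrel : ∀ a : Fin c → T, ∑ i, a i * g i = 0 → ∀ i, a i ∈ Ideal.span (Set.range g)) :
    Algebra.FormallySmooth A Tb ↔
      Module.finrank (ResidueField Tb) (ResidueField Tb ⊗[Tb] Ω[Tb⁄A]) ≤ m := by
  haveI : Nontrivial T := RingHom.domain_nontrivial (algebraMap T Tb)
  let k := ResidueField Tb
  let P : Algebra.Extension A Tb := { Ring := T, σ := _, algebraMap_σ := Function.surjInv_eq hsurj }
  have hfg : P.ker.FG := by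
    show (RingHom.ker (algebraMap T Tb)).FG
    rw [hg]
    exact Submodule.fg_span (Set.finite_range g)
  haveI : Algebra.FormallySmooth A P.Ring := ‹Algebra.FormallySmooth A T›
  haveI : Module.Free P.Ring Ω[P.Ring⁄A] := ‹Module.Free T Ω[T⁄A]›
  haveI : Module.Finite P.Ring Ω[P.Ring⁄A] := ‹Module.Finite T Ω[T⁄A]›
  have hgk : ∀ i, g i ∈ P.ker := fun i => by
    show g i ∈ RingHom.ker (algebraMap T Tb)
    rw [hg]; exact Ideal.subset_span ⟨i, rfl⟩
  let b : Fin c → P.Cotangent := fun i => Algebra.Extension.Cotangent.mk ⟨g i, hgk i⟩
  let ψ : (Fin c → Tb) →ₗ[Tb] P.Cotangent := Fintype.linearCombination Tb b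
  have hψs : Function.Surjective ψ := by
    intro z
    obtain ⟨⟨x, hx⟩, rfl⟩ := Algebra.Extension.Cotangent.mk_surjective z
    obtain ⟨a, ha⟩ := Ideal.mem_span_range_iff_exists_fun.1 (hg ▸ (show x ∈ RingHom.ker (algebraMap T Tb) from hx))
    refine ⟨fun i => algebraMap T Tb (a i), ?_⟩
    rw [Fintype.linearCombination_apply]
    have e : (⟨x, hx⟩ : P.ker) = ∑ i, (a i : P.Ring) • (⟨g i, hgk i⟩ : P.ker) :=
      Subtype.ext (by simpa [Submodule.coe_sum] using ha.symm)
    rw [e, map_sum]
    exact Finset.sum_congr rfl fun i _ => ((IsScalarTower.algebraMap_smul Tb (a i) (b i)).trans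
      (map_smul _ _ _).symm)
  haveI : Module.Finite Tb P.Cotangent := Module.Finite.of_surjective ψ hψs
  let l := P.cotangentComplex.baseChange k
  let r := P.toKaehler.baseChange k
  have hrs : Function.Surjective r := LinearMap.lTensor_surjective k P.toKaehler_surjective
  have hex : Function.Exact l r :=
    lTensor_exact k P.exact_cotangentComplex_toKaehler P.toKaehler_surjective
  let M := k ⊗[Tb] P.CotangentSpace
  haveI : Module.Finite Tb P.CotangentSpace := inferInstanceAs (Module.Finite Tb (Tb ⊗[T] Ω[T⁄A]))
  haveI : Module.Free Tb P.CotangentSpace := inferInstanceAs (Module.Free Tb (Tb ⊗[T] Ω[T⁄A]))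
  haveI : Nontrivial Tb := inferInstance
  have hM : Module.finrank k (k ⊗[Tb] P.CotangentSpace) = m + c := by
    rw [Module.finrank_baseChange]
    show Module.finrank Tb (Tb ⊗[T] Ω[T⁄A]) = m + c
    rw [Module.finrank_baseChange, hr]
  have hsum : Module.finrank k (LinearMap.range l) + Module.finrank k (k ⊗[Tb] Ω[Tb⁄A]) = m + c := by
    have h := LinearMap.finrank_range_add_finrank_ker r
    rw [LinearMap.range_eq_top.2 hrs, finrank_top, LinearMap.exact_iff.1 hex, hM] at h
    omega
  have hdom : Module.finrank k (k ⊗[Tb] P.Cotangent) ≤ c := by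
    have h := LinearMap.finrank_le_finrank_of_surjective (f := ψ.baseChange k)
      (LinearMap.lTensor_surjective k hψs)
    exact h.trans_eq (by rw [Module.finrank_baseChange, Module.finrank_fin_fun])
  have hinj : Algebra.FormallySmooth A Tb ↔ Function.Injective l :=
    Algebra.FormallySmooth.iff_injective_lTensor_residueField P hfg
  show Algebra.FormallySmooth A Tb ↔ Module.finrank k (k ⊗[Tb] Ω[Tb⁄A]) ≤ m
  constructor
  · intro hs
    have hl := hinj.1 hs
    obtain ⟨s, hsp⟩ := P.formallySmooth_iff_split_injection.1 hs
    haveI : Module.Projective Tb P.Cotangent := Module.Projective.of_split P.cotangentComplex s hsp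
    have hψi : Function.Injective ψ := (injective_iff_map_eq_zero ψ).2 fun v hv => by
      choose a ha using fun i => hsurj (v i)
      rw [Fintype.linearCombination_apply] at hv
      have e : Algebra.Extension.Cotangent.mk (P := P) (∑ i, (a i : P.Ring) • (⟨g i, hgk i⟩ : P.ker)) = 0 := by
        rw [map_sum, ← hv]
        refine Finset.sum_congr rfl fun i _ => ?_
        rw [map_smul, ← ha i]
        exact (IsScalarTower.algebraMap_smul Tb (a i) (b i)).symm
      have h2 : (∑ i, a i * g i) ∈ RingHom.ker (algebraMap T Tb) ^ 2 := by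
        have h3 := congrArg Algebra.Extension.Cotangent.val e
        simp only [Algebra.Extension.Cotangent.val_mk, Algebra.Extension.Cotangent.val_zero,
          Ideal.toCotangent_eq_zero] at h3
        simpa [Submodule.coe_sum] using h3
      rw [sq, hg, ← smul_eq_mul] at h2
      obtain ⟨d, hd, hd'⟩ := (Submodule.mem_ideal_smul_span_iff_exists_sum _ g _).1 h2
      funext i
      have h4 := hrel (fun i => a i - d i) (by
        simp only [sub_mul, Finset.sum_sub_distrib]
        rw [← hd', Finsupp.sum_fintype _ _ (fun i => by simp)]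
        simp) i
      have hi : a i ∈ RingHom.ker (algebraMap T Tb) := by
        rw [hg]; simpa using add_mem h4 (hd i)
      exact (ha i).symm.trans hi
    have he : Module.finrank k (k ⊗[Tb] P.Cotangent) = c := by
      rw [← ((LinearEquiv.ofBijective ψ ⟨hψi, hψs⟩).baseChange (A := k)).finrank_eq, Module.finrank_baseChange,
        Module.finrank_fin_fun]
    rw [LinearMap.finrank_range_of_inj hl, he] at hsum
    omega
  · intro hle
    rw [hinj, ← LinearMap.ker_eq_bot, ← Submodule.finrank_eq_zero]
    have h := LinearMap.finrank_range_add_finrank_ker l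
    omega

end Groth.Agent.FittSmooth
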