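import Groth.Agent.FittSmooth.Core
import Groth.Agent.FittSmooth.Basic
import Groth.Agent.KRegLib.Kinds
import Groth.Agent.RegNear.Imm
import Groth.Agent.Synt29.KoszulSyntomic
import Groth.Agent.SmoothCrit.Omega

/-!
# Smoothness of local complete intersections by the rank of the differentials
-/

set_option autoImplicit false
set_option linter.style.haveILetI false
set_option backward.isDefEq.respectTransparency false
set_option backward.isDefEq.respectTransparency.types false
set_option maxHeartbeats 1000000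

universe u

open CategoryTheory AlgebraicGeometry TopologicalSpace IsLocalRing
open scoped TensorProduct

namespace Groth.Agent.FittSmooth

/-- Relations of an `H_1`-regular sequence stay in the ideal after localization. -/
theorem relations_localization {C T : Type u} [CommRing C] [CommRing T] [Algebra C T] (M : Submonoid C)
    [IsLocalization M T] {c : ℕ} (r : Fin c → C) (hr : CAlgX.IsH1Regular r) (a : Fin c → T)
    (ha : ∑ j, a j * algebraMap C T (r j) = 0) (i : Fin c) :
    a i ∈ Ideal.span (Set.range fun j => algebraMap C T (r j)) := by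
  obtain ⟨s, hs⟩ := IsLocalization.exist_integer_multiples M Finset.univ a
  choose b hb using fun j => hs j (Finset.mem_univ j)
  have h0 : algebraMap C T (∑ j, b j * r j) = 0 := by
    simp only [map_sum, map_mul, hb, Algebra.smul_def, mul_assoc, ← Finset.mul_sum, ha, mul_zero]
  obtain ⟨t, ht⟩ := (IsLocalization.map_eq_zero_iff M T _).1 h0
  have h := hr (fun j => (t : C) * b j) (by rw [← ht, Finset.mul_sum]; simp only [mul_assoc])
  have hle : Submodule.span C {v : Fin c → C | ∃ p q : Fin c, v = Pi.single p (r q) - Pi.single q (r p)} ≤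
      Submodule.comap (LinearMap.proj i) (Ideal.span (Set.range r)) := by
    refine Submodule.span_le.2 ?_
    rintro _ ⟨p, q, rfl⟩
    show (Pi.single p (r q) : Fin c → C) i - (Pi.single q (r p) : Fin c → C) i ∈ Ideal.span (Set.range r)
    refine sub_mem ?_ ?_ <;>
      (rw [Pi.single_apply]; split_ifs) <;>
      first
        | exact Ideal.subset_span ⟨_, rfl⟩
        | exact zero_mem _
  have h1 : algebraMap C T ((t : C) * b i) ∈ Ideal.span (Set.range fun j => algebraMap C T (r j)) := by
    have h2 := Ideal.mem_map_of_mem (algebraMap C T) (show (t : C) * b i ∈ Ideal.span (Set.range r) from hle h)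
    rwa [Ideal.map_span, ← Set.range_comp] at h2
  rw [map_mul, hb, Algebra.smul_def] at h1
  exact (Ideal.unit_mul_mem_iff_mem _ (IsLocalization.map_units T s)).1
    ((Ideal.unit_mul_mem_iff_mem _ (IsLocalization.map_units T t)).1 h1)

/-- A point of a local complete intersection of virtual dimension `m` is smooth iff the differentials need at
most `m` generators. -/
theorem mem_smoothLocus_iff_finrank_le {U P X : Scheme.{u}} (i : U ⟶ P) (π : P ⟶ X) (g : U ⟶ X) (hg : i ≫ π = g)
    [LocallyOfFinitePresentation g] {m c : ℕ} [SmoothOfRelativeDimension (m + c) π]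
    (hi : RegImm.IsRegularImmersionOfCodim RegImm.Kind.koszul c i) (u : U) :
    letI := (g.stalkMap u).hom.toAlgebra
    u ∈ g.smoothLocus ↔ Module.finrank (ResidueField (U.presheaf.stalk u))
      (ResidueField (U.presheaf.stalk u) ⊗[U.presheaf.stalk u]
        Ω[U.presheaf.stalk u⁄X.presheaf.stalk (g u)]) ≤ m := by
  subst hg
  obtain ⟨himm, hloc⟩ := hi
  obtain ⟨⟨W, hW⟩, huW, hcl, rs, hlen, hseq, hker⟩ := hloc u
  obtain ⟨hV, hsW⟩ := Synt29.surjective_app_of_isClosedImmersion_restrict i W hW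
  subst hlen
  haveI : Smooth π := SmoothOfRelativeDimension.smooth (m + rs.length) π
  letI := ((i ≫ π).stalkMap u).hom.toAlgebra
  letI := (π.stalkMap (i u)).hom.toAlgebra
  letI := (i.stalkMap u).hom.toAlgebra
  letI : Algebra Γ(P, W) (P.presheaf.stalk (i u)) := (P.presheaf.germ W (i u) huW).hom.toAlgebra
  haveI hloc' : IsLocalization.AtPrime (P.presheaf.stalk (i u)) (hW.primeIdealOf ⟨i u, huW⟩).asIdeal :=
    hW.isLocalization_stalk ⟨i u, huW⟩
  letI : Algebra (X.presheaf.stalk (π (i u))) (U.presheaf.stalk u) := ((i ≫ π).stalkMap u).hom.toAlgebra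
  haveI : IsScalarTower (X.presheaf.stalk (π (i u))) (P.presheaf.stalk (i u)) (U.presheaf.stalk u) :=
    IsScalarTower.of_algebraMap_eq' (by
      show ((i ≫ π).stalkMap u).hom = (π.stalkMap (i u) ≫ i.stalkMap u).hom
      rw [Scheme.Hom.stalkMap_comp])
  haveI : Algebra.FormallySmooth (X.presheaf.stalk (π (i u))) (P.presheaf.stalk (i u)) :=
    RingHom.formallySmooth_algebraMap.1
      ((π.smoothLocus_eq_top).ge (trivial : i u ∈ (⊤ : P.Opens)))
  obtain ⟨hfree, hfin, hrk⟩ := SmoothCrit.free_stalk_of_smooth π (m + rs.length) (i u)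
  let r : Fin rs.length → Γ(P, W) := rs.get
  have hrange : Set.range r = {y | y ∈ rs} := Set.range_list_get rs
  show ((i ≫ π).stalkMap u).hom.FormallySmooth ↔ _
  refine (RingHom.formallySmooth_algebraMap
    (R := X.presheaf.stalk (π (i u))) (S := U.presheaf.stalk u)).trans
    (formallySmooth_iff_finrank_le (T := P.presheaf.stalk (i u)) (i.stalkMap_surjective u) hrk
      (fun j => algebraMap Γ(P, W) (P.presheaf.stalk (i u)) (r j)) ?_
      (relations_localization (hW.primeIdealOf ⟨i u, huW⟩).asIdeal.primeCompl r (KRegLib.h1_of_koszul rs hseq)))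
  show RingHom.ker (i.stalkMap u).hom = _
  rw [RegNear.ker_stalkMap_of_surjective i u hW hV hsW huW, hker, Ideal.ofList, ← hrange, Ideal.map_span,
    ← Set.range_comp]
  rfl

/-- The fibre criterion for Fitting ideals at any point with values in a field. -/
theorem fitting_fiber {R : Type u} [CommRing R] {M : Type u} [AddCommGroup M] [Module R M] [Module.Finite R M]
    (K : Type u) [Field K] [Algebra R K] (k : ℕ) :
    (Fitt.ideal R M k).map (algebraMap R K) ≠ ⊥ ↔ Module.finrank K (K ⊗[R] M) ≤ k := by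
  have h := FittX.ideal_baseChange (TensorProduct.isBaseChange R M K) k
  let b := Module.finBasis K (K ⊗[R] M)
  rw [← h]
  constructor
  · intro hne
    by_contra hcon
    exact hne (FittX.ideal_eq_bot_of_free _ k _ b (by omega))
  · intro hk
    rw [FittX.ideal_eq_top_of_gen b b.span_eq hk]
    exact top_ne_bot

/-- The generators of the differentials at a point and the Fitting ideal of an affine chart. -/
theorem finrank_fiber_le_iff {Z X : Scheme.{u}} (p : Z ⟶ X) [LocallyOfFinitePresentation p]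
    {W : X.Opens} (hW : IsAffineOpen W) {V : Z.Opens} (hV : IsAffineOpen V) (e : V ≤ p ⁻¹ᵁ W) {z : Z}
    (hz : z ∈ V) (m : ℕ) :
    letI := (p.appLE W V e).hom.toAlgebra
    letI := (p.stalkMap z).hom.toAlgebra
    Module.finrank (ResidueField (Z.presheaf.stalk z)) (ResidueField (Z.presheaf.stalk z) ⊗[Z.presheaf.stalk z]
        Ω[Z.presheaf.stalk z⁄X.presheaf.stalk (p z)]) ≤ m ↔
      ∃ a ∈ Fitt.ideal Γ(Z, V) Ω[Γ(Z, V)⁄Γ(X, W)] m, z ∈ Z.basicOpen a := by
  letI := (p.appLE W V e).hom.toAlgebra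
  letI := (p.stalkMap z).hom.toAlgebra
  letI := (Z.presheaf.germ V z hz).hom.toAlgebra
  haveI : Algebra.FinitePresentation Γ(X, W) Γ(Z, V) := p.finitePresentation_appLE hW hV e
  obtain ⟨E⟩ := H23.MulEtale.nonempty_equiv p hW hV e hz
  let T := Z.presheaf.stalk z
  let κ := ResidueField T
  rw [← (E.baseChange (A := κ)).finrank_eq,
    (TensorProduct.AlgebraTensorModule.cancelBaseChange Γ(Z, V) T κ κ Ω[Γ(Z, V)⁄Γ(X, W)]).finrank_eq,
    ← fitting_fiber]
  constructor
  · intro h
    by_contra hcon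
    push_neg at hcon
    refine h ((Ideal.map_eq_bot_iff_le_ker _).2 fun a ha => ?_)
    rw [RingHom.mem_ker, IsScalarTower.algebraMap_apply Γ(Z, V) T κ, ResidueField.algebraMap_eq,
      residue_eq_zero_iff]
    exact fun hu => hcon a ha ((Z.mem_basicOpen a z hz).2 hu)
  · rintro ⟨a, ha, hza⟩ h
    have h1 : algebraMap Γ(Z, V) κ a = 0 := (Ideal.map_eq_bot_iff_le_ker _).1 h ha
    rw [IsScalarTower.algebraMap_apply Γ(Z, V) T κ, ResidueField.algebraMap_eq, residue_eq_zero_iff] at h1
    exact h1 ((Z.mem_basicOpen a z hz).1 hza)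

/-- The Fitting ideal of the differentials of equal algebra structures. -/
theorem ideal_kaehler_congr {A B : Type u} [CommRing A] [CommRing B] {φ ψ : A →+* B} (h : φ = ψ) (m : ℕ) :
    (letI := φ.toAlgebra; Fitt.ideal B Ω[B⁄A] m) = (letI := ψ.toAlgebra; Fitt.ideal B Ω[B⁄A] m) := by
  subst h
  rfl

/-- The Fitting support read on a chart inside an open subscheme. -/
theorem mem_support_iff_restrict {Y X : Scheme.{u}} (f : Y ⟶ X) [LocallyOfFinitePresentation f] [QuasiSeparated f]
    (m : ℕ) (U : Y.Opens) (u : (U : Scheme.{u})) {W : X.Opens} (hW : IsAffineOpen W)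
    {V : (U : Scheme.{u}).Opens} (hV : IsAffineOpen V) (e : V ≤ (U.ι ≫ f) ⁻¹ᵁ W) (hu : u ∈ V) :
    letI := ((U.ι ≫ f).appLE W V e).hom.toAlgebra
    U.ι u ∉ (Fitt.sheafIdeal (Omega.sheaf f) m).support ↔
      ∃ a ∈ Fitt.ideal Γ(U, V) Ω[Γ(U, V)⁄Γ(X, W)] m, u ∈ (U : Scheme.{u}).basicOpen a := by
  letI := ((U.ι ≫ f).appLE W V e).hom.toAlgebra
  let V' : Y.Opens := U.ι ''ᵁ V
  have hV' : IsAffineOpen V' := hV.image_of_isOpenImmersion U.ι
  have e' : V' ≤ f ⁻¹ᵁ W := by
    rintro _ ⟨x, hx, rfl⟩
    exact e hx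
  have happ : (U.ι ≫ f).appLE W V e = f.appLE W V' e' := by
    rw [Scheme.Hom.comp_appLE, Scheme.Opens.ι_appLE]
    simp only [Scheme.Hom.appLE]
  have hd := OmegaUniv.isUniversal_dOmega f
  haveI := QCoh.finite_of_isFT (OmegaUniv.isQCoh_omega f) (OmegaUniv.isFT_omega f) hV'
  have hideal : Fitt.ideal Γ(U, V) Ω[Γ(U, V)⁄Γ(X, W)] m = Fitt.ideal Γ(Y, V') Γ(Omega.sheaf f, V') m := by
    letI : Algebra Γ(X, W) Γ(Y, V') := (f.appLE W V' e').hom.toAlgebra
    obtain ⟨l⟩ := Synt29.OmegaStalk.exists_linearEquiv_sections hd hV' hW e'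
    rw [FittX.ideal_congr l]
    exact ideal_kaehler_congr (happ ▸ rfl) m
  rw [Scheme.IdealSheafData.mem_support_iff_of_mem (U := ⟨V', hV'⟩) (show U.ι u ∈ V' from ⟨u, hu, rfl⟩),
    FittX.sheafIdeal_ideal (OmegaUniv.isQCoh_omega f) (OmegaUniv.isFT_omega f), Scheme.mem_zeroLocus_iff, hideal]
  push_neg
  refine exists_congr fun a => and_congr_right fun _ => ?_
  rw [show Y.basicOpen a = U.ι ''ᵁ ((U : Scheme.{u}).basicOpen a) by
    rw [Scheme.image_basicOpen, Scheme.Opens.ι_appIso]; rfl]
  exact ⟨by rintro ⟨x, hx, hxu⟩; rwa [← U.ι.isOpenEmbedding.injective hxu], fun h => ⟨u, h, rfl⟩⟩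

end Groth.Agent.FittSmooth
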